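import Mathlib
import Cfsg.Agent.Lib.Helper1.SUR.Defs

set_option autoImplicit false

/-!
Two-generation of `SU_n(q)`, `n ≥ 4` (Steinberg's scheme): hyperbolic pairs, even frames and the
explicit monomial elements (elementary Weyl elements, the Coxeter element, the torus element),
all defined as products of Eichler transformations.
-/

namespace Cfsg.Agent.Lib.Helper1.SUT

open Module Cfsg.Agent.Lib.Helper2 Cfsg.Agent.Lib.Helper2.IsomDecomp Cfsg.Agent.Lib.Helper2.UT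
  Cfsg.Agent.Lib.Helper5.PSLCoset Cfsg.Agent.Lib.Helper1.SUR

variable {F : Type*} [Field F] {σ : F ≃+* F} {V : Type*} [AddCommGroup V] [Module F V]
  {H : V → V → F}

/-- `m` hyperbolic pairs `(e i, f i)`, `i < m` -/
structure HPairs (H : V → V → F) (m : ℕ) (e f : ℕ → V) : Prop where
  ee : ∀ i j, i < m → j < m → H (e i) (e j) = 0
  ff : ∀ i j, i < m → j < m → H (f i) (f j) = 0
  ef : ∀ i j, i < m → j < m → H (e i) (f j) = if i = j then 1 else 0
  fe : ∀ i j, i < m → j < m → H (f i) (e j) = if i = j then 1 else 0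

/-- a Witt frame of a Hermitian space of even dimension `2m` -/
structure Frame0 (H : V → V → F) (m : ℕ) (e f : ℕ → V) : Prop where
  ee : ∀ i j, i < m → j < m → H (e i) (e j) = 0
  ff : ∀ i j, i < m → j < m → H (f i) (f j) = 0
  ef : ∀ i j, i < m → j < m → H (e i) (f j) = if i = j then 1 else 0
  fe : ∀ i j, i < m → j < m → H (f i) (e j) = if i = j then 1 else 0
  expand : ∀ x, x = ∑ i ∈ Finset.range m, (H x (f i) • e i + H x (e i) • f i)

theorem Frame0.hPairs {m : ℕ} {e f : ℕ → V} (fr : Frame0 H m e f) : HPairs H m e f :=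
  ⟨fr.ee, fr.ff, fr.ef, fr.fe⟩

theorem hPairs_of_frame {m : ℕ} {e f : ℕ → V} {d : V} (fr : Frame H m e f d) : HPairs H m e f :=
  ⟨fr.ee, fr.ff, fr.ef, fr.fe⟩

section elements

variable (h : IsHerm σ H) {m : ℕ} {e f : ℕ → V} (hp : HPairs H m e f)

/-- the elementary Weyl element `e_{k+1} ↦ σ(β) e_k`, `e_k ↦ −σ(β)⁻¹ e_{k+1}`,
`f_{k+1} ↦ β⁻¹ f_k`, `f_k ↦ −β f_{k+1}` (identity when `k + 1 ≥ m`) -/
noncomputable def nW (k : ℕ) (β : F) : V ≃ₗ[F] V :=
  if hk : k + 1 < m then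
    eich h (e k) (-(β • f (k + 1))) 0 (hp.ee k k (by omega) (by omega))
        (by rw [h.neg_left, h.smul_left, hp.fe (k + 1) k hk (by omega), if_neg (by omega),
          mul_zero, neg_zero]) *
      eich h (e (k + 1)) (β⁻¹ • f k) 0 (hp.ee (k + 1) (k + 1) hk hk)
        (by rw [h.smul_left, hp.fe k (k + 1) (by omega) hk, if_neg (by omega), mul_zero]) *
      eich h (e k) (-(β • f (k + 1))) 0 (hp.ee k k (by omega) (by omega))
        (by rw [h.neg_left, h.smul_left, hp.fe (k + 1) k hk (by omega), if_neg (by omega),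
          mul_zero, neg_zero])
  else 1

/-- the rank one Weyl element `e_k ↦ −μ⁻¹ f_k`, `f_k ↦ μ e_k` (identity when `k ≥ m`) -/
noncomputable def sW (k : ℕ) (μ : F) : V ≃ₗ[F] V :=
  if hk : k < m then
    tv h (e k) μ (hp.ee k k hk hk) * tv h (f k) (-μ⁻¹) (hp.ff k k hk hk) *
      tv h (e k) μ (hp.ee k k hk hk)
  else 1

/-- `coxP k = n_{k-1} ∘ ⋯ ∘ n_0` : `e_i ↦ e_{i-1}` (`1 ≤ i ≤ k`), `e_0 ↦ (-1)^k e_k` -/
noncomputable def coxP : ℕ → (V ≃ₗ[F] V)
  | 0 => 1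
  | (k + 1) => nW h hp k 1 * coxP k

/-- the Coxeter element: `e_i ↦ e_{i-1}`, `f_i ↦ f_{i-1}` (`1 ≤ i < m`),
`e_0 ↦ (-1)^m μ⁻¹ f_{m-1}`, `f_0 ↦ (-1)^(m-1) μ e_{m-1}` -/
noncomputable def cox (μ : F) : V ≃ₗ[F] V :=
  sW h hp (m - 1) μ * coxP h hp (m - 1)

/-- the torus element `e_0 ↦ σ(β) e_0`, `e_1 ↦ σ(β)⁻¹ e_1`, `f_0 ↦ β⁻¹ f_0`, `f_1 ↦ β f_1` -/
noncomputable def tor (β : F) : V ≃ₗ[F] V :=
  nW h hp 0 β * (nW h hp 0 1)⁻¹

end elements

end Cfsg.Agent.Lib.Helper1.SUT
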