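import Mathlib
import Cfsg.Agent.Lib.Helper1.SUT.Defs
import Cfsg.Agent.Lib.Helper1.SUR.Heis

set_option autoImplicit false

/-!
Rank one extraction (Steinberg): for a root element `u = E_{e0}(z0,c0)` and two commuting
isometries `t, t'` acting by scalars on `e0` and `z0`, the commutator `[t, u t' u⁻¹]` is an explicit
element of the root group of `u`.
-/

namespace Cfsg.Agent.Lib.Helper1.SUT

open Module Cfsg.Agent.Lib.Helper2 Cfsg.Agent.Lib.Helper2.IsomDecomp Cfsg.Agent.Lib.Helper2.UT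
  Cfsg.Agent.Lib.Helper5.PSLCoset Cfsg.Agent.Lib.Helper1.SUR

variable {F : Type*} [Field F] {σ : F ≃+* F} {V : Type*} [AddCommGroup V] [Module F V]
  {H : V → V → F}

theorem herm_neg_right' (h : IsHerm σ H) (u w : V) : H u (-w) = - H u w := by
  rw [h.symm (-w) u, h.neg_left, map_neg, ← h.symm]

/-- `E_{a p}(z, c) = E_p(σ(a) z, a σ(a) c)` -/
theorem eich_smul_left (hσ2 : ∀ a : F, σ (σ a) = a) (h : IsHerm σ H) (p z : V) (a c : F)
    (hp : H p p = 0) (hz : H z p = 0) :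
    eich h (a • p) z c (by rw [h.smul_left, h.smul_right, hp, mul_zero, mul_zero])
        (by rw [h.smul_right, hz, mul_zero]) =
      eich h p (σ a • z) (a * σ a * c) hp (by rw [h.smul_left, hz, mul_zero]) := by
  apply LinearEquiv.ext
  intro x
  rw [eich_apply, eich_apply, h.smul_right, h.smul_right, hσ2]
  module

/-- conjugation of an Eichler transformation by an isometry acting by scalars on `p` and `z` -/
theorem conj_eich_diag (hσ2 : ∀ a : F, σ (σ a) = a) (h : IsHerm σ H) {g : V ≃ₗ[F] V}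
    (hg : g ∈ isom H) (p z : V) (c : F) (hp : H p p = 0) (hz : H z p = 0) {a b : F}
    (hgp : g p = a • p) (hgz : g z = b • z) :
    g * eich h p z c hp hz * g⁻¹ =
      eich h p ((σ a * b) • z) (a * σ a * c) hp (by rw [h.smul_left, hz, mul_zero]) := by
  rw [conj_eich h hg,
    eich_congr h (p' := a • p) (z' := b • z) (c' := c) (by rw [hg, hp]) (by rw [hg, hz]) hgp hgz rfl,
    eich_smul_left hσ2 h p (b • z) a c hp (by rw [h.smul_left, hz, mul_zero])]
  exact eich_congr h hp _ rfl (by rw [smul_smul]) rfl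

/-- an Eichler transformation which is an isometry has a valid parameter -/
theorem eich_valid_of_isom (h : IsHerm σ H) (p z : V) (c : F) (hp : H p p = 0) (hz : H z p = 0)
    {x : V} (hx : H x p ≠ 0) (hi : eich h p z c hp hz ∈ isom H) : c + σ c + H z z = 0 := by
  have hpz : H p z = 0 := by rw [h.symm z p, hz, map_zero]
  have h1 := hi x x
  rw [eich_apply] at h1
  simp only [h.add_left, h.sub_left, h.smul_left, h.add_right, h.sub_right, h.smul_right, hp, hz,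
    hpz, map_mul, h.symm x p, h.symm x z] at h1
  have h2 : (H x p * σ (H x p)) * (c + σ c + H z z) = 0 := by
    linear_combination h1
  rcases mul_eq_zero.mp h2 with h3 | h3
  · exfalso
    rcases mul_eq_zero.mp h3 with h4 | h4
    · exact hx h4
    · exact hx ((map_eq_zero σ).mp h4)
  · exact h3

/-- the commutator `[t, u t' u⁻¹]` as an element of the root group of `u` -/
theorem extract (hσ2 : ∀ a : F, σ (σ a) = a) (h : IsHerm σ H) {e0 z0 : V} (he0 : H e0 e0 = 0)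
    (hz0 : H z0 e0 = 0) {c0 : F} (hc0 : c0 + σ c0 + H z0 z0 = 0) {x0 : V} (hx0 : H x0 e0 ≠ 0)
    {t t' : V ≃ₗ[F] V} (ht : t ∈ isom H) (ht' : t' ∈ isom H) (hcomm : t * t' = t' * t)
    {a b a' b' : F} (hte : t e0 = a • e0) (htz : t z0 = b • z0) (ht'e : t' e0 = a' • e0)
    (ht'z : t' z0 = b' • z0) :
    ∃ C : F, t * (eich h e0 z0 c0 he0 hz0 * t' * (eich h e0 z0 c0 he0 hz0)⁻¹) * t⁻¹ *
        (eich h e0 z0 c0 he0 hz0 * t' * (eich h e0 z0 c0 he0 hz0)⁻¹)⁻¹ =
      eich h e0 (((σ a * b - 1) * (1 - σ a' * b')) • z0) C he0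
        (by rw [h.smul_left, hz0, mul_zero]) ∧ (c0 = 0 → H z0 z0 = 0 → C = 0) := by
  set u := eich h e0 z0 c0 he0 hz0 with hu
  have hui : u ∈ isom H := eich_mem_isom h e0 z0 c0 he0 hz0 hc0
  set ρ := σ a * b with hρ
  set ρ' := σ a' * b' with hρ'
  have e1 : t * t' * t⁻¹ = t' := by rw [hcomm, mul_assoc, mul_inv_cancel, mul_one]
  -- group identity
  have hg : t * (u * t' * u⁻¹) * t⁻¹ * (u * t' * u⁻¹)⁻¹ =
      (t * u * t⁻¹) * (t' * ((t * u * t⁻¹)⁻¹ * u) * t'⁻¹) * u⁻¹ := by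
    calc t * (u * t' * u⁻¹) * t⁻¹ * (u * t' * u⁻¹)⁻¹
        = (t * u * t⁻¹) * (t * t' * t⁻¹) * (t * u * t⁻¹)⁻¹ * u * t'⁻¹ * u⁻¹ := by group
      _ = (t * u * t⁻¹) * (t' * ((t * u * t⁻¹)⁻¹ * u) * t'⁻¹) * u⁻¹ := by rw [e1]; group
  -- `u1 = t u t⁻¹`
  have hz1 : H (ρ • z0) e0 = 0 := by rw [h.smul_left, hz0, mul_zero]
  have hu1 : t * u * t⁻¹ = eich h e0 (ρ • z0) (a * σ a * c0) he0 hz1 :=
    conj_eich_diag hσ2 h ht e0 z0 c0 he0 hz0 hte htz
  have hu1i : eich h e0 (ρ • z0) (a * σ a * c0) he0 hz1 ∈ isom H := by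
    rw [← hu1]
    exact (isom H).mul_mem ((isom H).mul_mem ht hui) ((isom H).inv_mem ht)
  have hc1 := eich_valid_of_isom h e0 (ρ • z0) (a * σ a * c0) he0 hz1 hx0 hu1i
  -- `v = u1⁻¹ u`
  have hzv : H ((1 - ρ) • z0) e0 = 0 := by rw [h.smul_left, hz0, mul_zero]
  have hv : (t * u * t⁻¹)⁻¹ * u = eich h e0 ((1 - ρ) • z0)
      (σ (a * σ a * c0) + c0 - H z0 (-(ρ • z0))) he0 hzv := by
    rw [hu1, eich_inv h e0 (ρ • z0) (a * σ a * c0) he0 hz1 hc1, hu, eich_mul]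
    exact eich_congr h he0 _ rfl (by module) rfl
  -- `t' v t'⁻¹`
  have ht'zv : t' ((1 - ρ) • z0) = b' • ((1 - ρ) • z0) := by
    rw [map_smul, ht'z, smul_comm]
  have hz2 : H ((σ a' * b') • ((1 - ρ) • z0)) e0 = 0 := by
    rw [h.smul_left, h.smul_left, hz0, mul_zero, mul_zero]
  have hv2 : t' * ((t * u * t⁻¹)⁻¹ * u) * t'⁻¹ = eich h e0 ((σ a' * b') • ((1 - ρ) • z0))
      (a' * σ a' * (σ (a * σ a * c0) + c0 - H z0 (-(ρ • z0)))) he0 hz2 := by
    rw [hv]
    exact conj_eich_diag hσ2 h ht' e0 ((1 - ρ) • z0) _ he0 hzv ht'e ht'zv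
  refine ⟨a * σ a * c0 + a' * σ a' * (σ (a * σ a * c0) + c0 - H z0 (-(ρ • z0))) -
      H ((σ a' * b') • ((1 - ρ) • z0)) (ρ • z0) + σ c0 -
      H (-z0) (ρ • z0 + (σ a' * b') • ((1 - ρ) • z0)), ?_, ?_⟩
  · rw [hg, hv2, hu1, hu, eich_inv h e0 z0 c0 he0 hz0 hc0, eich_mul, eich_mul]
    refine eich_congr h he0 _ rfl ?_ rfl
    rw [← hρ']
    module
  · intro h0 h00
    subst h0
    simp only [h.smul_left, h.smul_right, h.neg_left, herm_neg_right' h, h.add_right, h00, mul_zero,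
      map_zero, neg_zero, sub_zero, add_zero]

end Cfsg.Agent.Lib.Helper1.SUT
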