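import Mathlib
import Cfsg.Agent.Lib.Helper1.SUT.Rank1
import Cfsg.Agent.Lib.Helper1.SUR.Core1

set_option autoImplicit false

/-!
The hypotheses on the Coxeter element `w` and the torus element `t` (bundled), and the fact
that `t` and `w t w⁻¹` act diagonally on the frame vectors.
-/

namespace Cfsg.Agent.Lib.Helper1.SUT

open Module Cfsg.Agent.Lib.Helper2 Cfsg.Agent.Lib.Helper2.IsomDecomp Cfsg.Agent.Lib.Helper2.UT
  Cfsg.Agent.Lib.Helper5.PSLCoset Cfsg.Agent.Lib.Helper1.SUR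

variable {F : Type*} [Field F] {σ : F ≃+* F} {V : Type*} [AddCommGroup V] [Module F V]
  {H : V → V → F}

/-- `w` acts as a Coxeter element on the hyperbolic pairs -/
structure IsCox (H : V → V → F) (m : ℕ) (e f : ℕ → V) (w : V ≃ₗ[F] V) (a b : F) : Prop where
  isom : w ∈ isom H
  ha : a ≠ 0
  hb : b ≠ 0
  e_succ : ∀ i, i + 1 < m → w (e (i + 1)) = e i
  f_succ : ∀ i, i + 1 < m → w (f (i + 1)) = f i
  e_zero : w (e 0) = a • f (m - 1)
  f_zero : w (f 0) = b • e (m - 1)

/-- `t` acts as the torus element `(θ, θ⁻¹, 1, …, 1)` -/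
structure IsTor (σ : F ≃+* F) (H : V → V → F) (e f : ℕ → V) (t : V ≃ₗ[F] V) (θ : F) : Prop where
  isom : t ∈ isom H
  e_zero : t (e 0) = θ • e 0
  e_one : t (e 1) = θ⁻¹ • e 1
  f_zero : t (f 0) = (σ θ)⁻¹ • f 0
  f_one : t (f 1) = σ θ • f 1
  fix : ∀ x, H x (e 0) = 0 → H x (e 1) = 0 → H x (f 0) = 0 → H x (f 1) = 0 → t x = x

/-- conjugating a diagonal map by a monomial one -/
theorem conj_diag_apply {w t : V ≃ₗ[F] V} {v v' : V} {k c : F} (hk : k ≠ 0) (hw : w v' = k • v)
    (ht : t v' = c • v') : (w * t * w⁻¹) v = c • v := by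
  have h1 : w (k⁻¹ • v') = v := by rw [map_smul, hw, smul_smul, inv_mul_cancel₀ hk, one_smul]
  have h2 : w⁻¹ v = k⁻¹ • v' := inv_apply_eq_of_apply_eq h1
  rw [LinearEquiv.mul_apply, LinearEquiv.mul_apply, h2, map_smul, ht, map_smul, map_smul, hw,
    smul_smul, smul_smul]
  congr 1
  field_simp

section
variable {m : ℕ} {e f : ℕ → V} (hp : HPairs H m e f) (hm : 2 ≤ m) {w t : V ≃ₗ[F] V} {a b θ : F}
  (hw : IsCox H m e f w a b) (ht : IsTor σ H e f t θ)

include hp hm ht in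
theorem tor_diag_e (i : ℕ) (hi : i < m) : ∃ c : F, t (e i) = c • e i := by
  rcases Nat.lt_or_ge i 2 with h2 | h2
  · interval_cases i
    · exact ⟨_, ht.e_zero⟩
    · exact ⟨_, ht.e_one⟩
  · refine ⟨1, ?_⟩
    rw [one_smul]
    apply ht.fix
    · exact hp.ee i 0 hi (by omega)
    · exact hp.ee i 1 hi (by omega)
    · rw [hp.ef i 0 hi (by omega), if_neg (by omega)]
    · rw [hp.ef i 1 hi (by omega), if_neg (by omega)]

include hp hm ht in
theorem tor_diag_f (i : ℕ) (hi : i < m) : ∃ c : F, t (f i) = c • f i := by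
  rcases Nat.lt_or_ge i 2 with h2 | h2
  · interval_cases i
    · exact ⟨_, ht.f_zero⟩
    · exact ⟨_, ht.f_one⟩
  · refine ⟨1, ?_⟩
    rw [one_smul]
    apply ht.fix
    · rw [hp.fe i 0 hi (by omega), if_neg (by omega)]
    · rw [hp.fe i 1 hi (by omega), if_neg (by omega)]
    · exact hp.ff i 0 hi (by omega)
    · exact hp.ff i 1 hi (by omega)

include hp hm hw ht in
theorem tor'_diag_e (i : ℕ) (hi : i < m) : ∃ c : F, (w * t * w⁻¹) (e i) = c • e i := by
  rcases Nat.lt_or_ge (i + 1) m with h1 | h1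
  · obtain ⟨c, hc⟩ := tor_diag_e hp hm ht (i + 1) h1
    exact ⟨c, conj_diag_apply (k := 1) one_ne_zero (by rw [one_smul]; exact hw.e_succ i h1) hc⟩
  · obtain ⟨c, hc⟩ := tor_diag_f hp hm ht 0 (by omega)
    have him : i = m - 1 := by omega
    refine ⟨c, conj_diag_apply hw.hb ?_ hc⟩
    rw [him]
    exact hw.f_zero

include hp hm hw ht in
theorem tor'_diag_f (i : ℕ) (hi : i < m) : ∃ c : F, (w * t * w⁻¹) (f i) = c • f i := by
  rcases Nat.lt_or_ge (i + 1) m with h1 | h1
  · obtain ⟨c, hc⟩ := tor_diag_f hp hm ht (i + 1) h1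
    exact ⟨c, conj_diag_apply (k := 1) one_ne_zero (by rw [one_smul]; exact hw.f_succ i h1) hc⟩
  · obtain ⟨c, hc⟩ := tor_diag_e hp hm ht 0 (by omega)
    have him : i = m - 1 := by omega
    refine ⟨c, conj_diag_apply hw.ha ?_ hc⟩
    rw [him]
    exact hw.e_zero

end

/-- two linear maps agreeing on an odd frame are equal -/
theorem frame_ext {m : ℕ} {e f : ℕ → V} {d : V} (fr : Frame H m e f d)
    (A B : V →ₗ[F] V) (he : ∀ i, i < m → A (e i) = B (e i)) (hf : ∀ i, i < m → A (f i) = B (f i))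
    (hd : A d = B d) : A = B := by
  apply LinearMap.ext
  intro x
  rw [fr.expand x]
  simp only [map_add, map_sum, map_smul]
  rw [hd]
  congr 1
  apply Finset.sum_congr rfl
  intro i hi
  rw [he i (Finset.mem_range.mp hi), hf i (Finset.mem_range.mp hi)]

/-- two linear maps agreeing on an even frame are equal -/
theorem frame0_ext {m : ℕ} {e f : ℕ → V} (fr : Frame0 H m e f)
    (A B : V →ₗ[F] V) (he : ∀ i, i < m → A (e i) = B (e i))
    (hf : ∀ i, i < m → A (f i) = B (f i)) : A = B := by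
  apply LinearMap.ext
  intro x
  rw [fr.expand x]
  simp only [map_add, map_sum, map_smul]
  apply Finset.sum_congr rfl
  intro i hi
  rw [he i (Finset.mem_range.mp hi), hf i (Finset.mem_range.mp hi)]

/-- diagonal maps commute (odd frame) -/
theorem comm_of_diag {m : ℕ} {e f : ℕ → V} {d : V} (fr : Frame H m e f d)
    (A B : V ≃ₗ[F] V) (hAe : ∀ i, i < m → ∃ c : F, A (e i) = c • e i)
    (hAf : ∀ i, i < m → ∃ c : F, A (f i) = c • f i) (hAd : ∃ c : F, A d = c • d)
    (hBe : ∀ i, i < m → ∃ c : F, B (e i) = c • e i)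
    (hBf : ∀ i, i < m → ∃ c : F, B (f i) = c • f i) (hBd : ∃ c : F, B d = c • d) :
    A * B = B * A := by
  have key : ∀ v : V, (∃ c : F, A v = c • v) → (∃ c : F, B v = c • v) → A (B v) = B (A v) := by
    rintro v ⟨c, hc⟩ ⟨c', hc'⟩
    rw [hc, hc', map_smul, map_smul, hc, hc', smul_comm]
  apply LinearEquiv.toLinearMap_injective
  apply frame_ext fr
  · intro i hi
    exact key _ (hAe i hi) (hBe i hi)
  · intro i hi
    exact key _ (hAf i hi) (hBf i hi)
  · exact key _ hAd hBd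

/-- diagonal maps commute (even frame) -/
theorem comm_of_diag0 {m : ℕ} {e f : ℕ → V} (fr : Frame0 H m e f)
    (A B : V ≃ₗ[F] V) (hAe : ∀ i, i < m → ∃ c : F, A (e i) = c • e i)
    (hAf : ∀ i, i < m → ∃ c : F, A (f i) = c • f i)
    (hBe : ∀ i, i < m → ∃ c : F, B (e i) = c • e i)
    (hBf : ∀ i, i < m → ∃ c : F, B (f i) = c • f i) :
    A * B = B * A := by
  have key : ∀ v : V, (∃ c : F, A v = c • v) → (∃ c : F, B v = c • v) → A (B v) = B (A v) := by
    rintro v ⟨c, hc⟩ ⟨c', hc'⟩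
    rw [hc, hc', map_smul, map_smul, hc, hc', smul_comm]
  apply LinearEquiv.toLinearMap_injective
  apply frame0_ext fr
  · intro i hi
    exact key _ (hAe i hi) (hBe i hi)
  · intro i hi
    exact key _ (hAf i hi) (hBf i hi)

end Cfsg.Agent.Lib.Helper1.SUT
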