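import Mathlib
import Cfsg.Agent.Lib.Helper1.SUT.Diag
import Cfsg.Agent.Lib.Helper1.SUR.Core4
import Cfsg.Agent.Lib.Helper4.SUREnd
import Cfsg.Agent.Lib.Lead.SURField

set_option autoImplicit false

/-!
Lemmas common to the odd and even cores of the two-generation of `SU_n(q)`.
-/

namespace Cfsg.Agent.Lib.Helper1.SUT

open Module Cfsg.Agent.Lib.Helper2 Cfsg.Agent.Lib.Helper2.IsomDecomp Cfsg.Agent.Lib.Helper2.UT
  Cfsg.Agent.Lib.Helper5.PSLCoset Cfsg.Agent.Lib.Helper1.SUR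

variable {F : Type*} [Field F] {σ : F ≃+* F} {V : Type*} [AddCommGroup V] [Module F V]
  {H : V → V → F}

theorem aSet_sum (h : IsHerm σ H) (K : Subgroup (V ≃ₗ[F] V)) (e0 : V) (he0 : H e0 e0 = 0)
    (s : Finset ℕ) (g : ℕ → V) (hg : ∀ i ∈ s, g i ∈ aSet h K e0 he0) :
    ∑ i ∈ s, g i ∈ aSet h K e0 he0 := by
  classical
  induction s using Finset.induction_on with
  | empty =>
    rw [Finset.sum_empty]
    exact aSet_zero h K e0 he0
  | insert i s his ih =>
    rw [Finset.sum_insert his]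
    exact aSet_add h K e0 he0 (hg i (Finset.mem_insert_self i s))
      (ih (fun j hj => hg j (Finset.mem_insert_of_mem hj)))

/-- the generator is not `1` -/
theorem gen_ne_one (hσ : orderOf σ = 2) {θ : F} (hθ : ∀ x : F, x ≠ 0 → ∃ k : ℕ, x = θ ^ k) :
    θ ≠ 1 := by
  intro h1
  have hall : ∀ x : F, x ≠ 0 → x = 1 := by
    intro x hx
    obtain ⟨k, hk⟩ := hθ x hx
    rw [hk, h1, one_pow]
  have hσ1 : σ = 1 := by
    apply RingEquiv.ext
    intro x
    rcases eq_or_ne x 0 with hx | hx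
    · rw [hx, map_zero]
      rfl
    · rw [hall x hx, map_one]
      rfl
  rw [hσ1, orderOf_one] at hσ
  omega

/-- the conjugate of a generator is a generator -/
theorem gen_sigma (hσ2 : ∀ a : F, σ (σ a) = a) {θ : F}
    (hθ : ∀ x : F, x ≠ 0 → ∃ k : ℕ, x = θ ^ k) : ∀ x : F, x ≠ 0 → ∃ k : ℕ, x = (σ θ) ^ k := by
  intro x hx
  have hx' : σ x ≠ 0 := fun h0 => hx ((map_eq_zero σ).mp h0)
  obtain ⟨k, hk⟩ := hθ (σ x) hx'
  refine ⟨k, ?_⟩
  rw [← map_pow, ← hk, hσ2]

section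
variable {m : ℕ} {e f : ℕ → V} {w : V ≃ₗ[F] V} {a b : F}

/-- the powers of the Coxeter element on `e_0` -/
theorem cox_pow_e_zero (hw : IsCox H m e f w a b) (i : ℕ) (hi : i < m) :
    (w ^ (i + 1)) (e 0) = a • f (m - 1 - i) := by
  induction i with
  | zero =>
    rw [zero_add, pow_one, Nat.sub_zero]
    exact hw.e_zero
  | succ i ih =>
    rw [pow_succ', LinearEquiv.mul_apply, ih (by omega), map_smul]
    obtain ⟨j, hj⟩ : ∃ j, m - 1 - i = j + 1 := ⟨m - 1 - i - 1, by omega⟩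
    rw [hj, hw.f_succ j (by omega)]
    congr 2
    omega

end

end Cfsg.Agent.Lib.Helper1.SUT
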