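import Mathlib
import Cfsg.Agent.Lib.Helper1.SUT.Common

set_option autoImplicit false

/-!
The even core: in dimension `2m ≥ 4`, the torus element `t` and `y = E_{e_0}(f_1,0) w`
(`w` a Coxeter element) generate a subgroup containing all unitary transvections.
-/

namespace Cfsg.Agent.Lib.Helper1.SUT

open Module Cfsg.Agent.Lib.Helper2 Cfsg.Agent.Lib.Helper2.IsomDecomp Cfsg.Agent.Lib.Helper2.UT
  Cfsg.Agent.Lib.Helper5.PSLCoset Cfsg.Agent.Lib.Helper1.SUR

variable {F : Type*} [Field F] {σ : F ≃+* F} {V : Type*} [AddCommGroup V] [Module F V]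
  {H : V → V → F}

/-- the generator is not fixed by `σ` -/
theorem gen_sigma_ne (hσ : orderOf σ = 2) {θ : F} (hθ : ∀ x : F, x ≠ 0 → ∃ k : ℕ, x = θ ^ k) :
    σ θ ≠ θ := by
  intro h1
  have hσ1 : σ = 1 := by
    apply RingEquiv.ext
    intro x
    rcases eq_or_ne x 0 with hx | hx
    · rw [hx, map_zero]
      rfl
    · obtain ⟨k, hk⟩ := hθ x hx
      rw [hk, map_pow, h1]
      rfl
  rw [hσ1, orderOf_one] at hσ
  omega

/-- the square of the generator is not `1` -/
theorem gen_sq_ne_one (hσ : orderOf σ = 2) {θ : F} (hθ : ∀ x : F, x ≠ 0 → ∃ k : ℕ, x = θ ^ k)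
    (hθ0 : θ ≠ 0) : θ ^ 2 ≠ 1 := by
  intro h2
  apply gen_sigma_ne hσ hθ
  have hσθ0 : σ θ ≠ 0 := fun h0 => hθ0 ((map_eq_zero σ).mp h0)
  obtain ⟨k, hk⟩ := hθ (σ θ) hσθ0
  have hpow : ∀ k : ℕ, θ ^ k = 1 ∨ θ ^ k = θ := by
    intro k
    induction k with
    | zero => left; exact pow_zero θ
    | succ k ih =>
      rcases ih with h1 | h1
      · right
        rw [pow_succ, h1, one_mul]
      · left
        rw [pow_succ, h1, ← pow_two, h2]
  rcases hpow k with h1 | h1
  · rw [h1] at hk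
    have : θ = 1 := by
      have h3 := congrArg σ.symm hk
      rwa [RingEquiv.symm_apply_apply, map_one] at h3
    rw [hk, this]
  · rw [hk, h1]

/-- the full root group `{E_p(β z, 0)}` lies in `K` -/
def evenP (h : IsHerm σ H) (K : Subgroup (V ≃ₗ[F] V)) (p z : V) : Prop :=
  ∀ (β : F) (hp' : H p p = 0) (hz : H (β • z) p = 0), eich h p (β • z) 0 hp' hz ∈ K

section
variable (h : IsHerm σ H)

theorem evenP_map (K : Subgroup (V ≃ₗ[F] V)) {g : V ≃ₗ[F] V} (hg : g ∈ isom H) (hgK : g ∈ K)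
    {p z : V} (hzp : H z p = 0) (hP : evenP h K p z) : evenP h K (g p) (g z) := by
  intro β hp' hz
  have hpp : H p p = 0 := by rw [← hg p p]; exact hp'
  have hzp' : H (β • z) p = 0 := by rw [h.smul_left, hzp, mul_zero]
  have h1 := K.mul_mem (K.mul_mem hgK (hP β hpp hzp')) (K.inv_mem hgK)
  rw [conj_eich h hg] at h1
  rw [eich_congr h hp' hz rfl (show β • g z = g (β • z) by rw [map_smul]) rfl]
  exact h1

theorem evenP_smul_left (hσ2 : ∀ a : F, σ (σ a) = a) (K : Subgroup (V ≃ₗ[F] V)) {p z : V} {k : F}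
    (hk : k ≠ 0) (hzp : H z p = 0) (hP : evenP h K (k • p) z) : evenP h K p z := by
  intro β hp' hz
  have hσk : σ k ≠ 0 := fun h0 => hk ((map_eq_zero σ).mp h0)
  have hkp : H (k • p) (k • p) = 0 := by
    rw [h.smul_left, h.smul_right, hp', mul_zero, mul_zero]
  have hzk : H (((σ k)⁻¹ * β) • z) (k • p) = 0 := by
    rw [h.smul_left, h.smul_right, hzp, mul_zero, mul_zero]
  have h1 := hP ((σ k)⁻¹ * β) hkp hzk
  rw [eich_smul_left hσ2 h p _ k _ hp' (by rw [h.smul_left, hzp, mul_zero])] at h1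
  rw [eich_congr h hp' hz rfl (show β • z = σ k • ((σ k)⁻¹ * β) • z by
    rw [smul_smul, ← mul_assoc, mul_inv_cancel₀ hσk, one_mul])
    (show (0 : F) = k * σ k * 0 by rw [mul_zero])]
  exact h1

theorem evenP_smul_right (K : Subgroup (V ≃ₗ[F] V)) {p z : V} {k : F}
    (hk : k ≠ 0) (hzp : H z p = 0) (hP : evenP h K p (k • z)) : evenP h K p z := by
  intro β hp' hz
  have h1 := hP (β * k⁻¹) hp' (by rw [h.smul_left, h.smul_left, hzp, mul_zero, mul_zero])
  rw [eich_congr h hp' hz rfl (show β • z = (β * k⁻¹) • k • z by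
    rw [smul_smul, mul_assoc, inv_mul_cancel₀ hk, mul_one]) rfl]
  exact h1

theorem evenP_symm (hσ2 : ∀ a : F, σ (σ a) = a) (K : Subgroup (V ≃ₗ[F] V)) {p z : V}
    (hpp : H p p = 0) (hzp : H z p = 0) (hP : evenP h K p z) : evenP h K z p := by
  intro β hp' hz
  have h1 := hP (-(σ β)) hpp (by rw [h.smul_left, hzp, mul_zero])
  have h2 : eich h z (β • p) 0 hp' hz = eich h p ((-(σ β)) • z) 0 hpp
      (by rw [h.smul_left, hzp, mul_zero]) := by
    apply LinearEquiv.ext
    intro x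
    rw [eich_apply, eich_apply, h.smul_right, h.smul_right, map_neg, hσ2]
    module
  rw [h2]
  exact h1

end

section
variable (hσ : orderOf σ = 2) (h : IsHerm σ H) {m : ℕ} {e f : ℕ → V}
  (fr : Frame0 H m e f) (hm : 2 ≤ m) {w t : V ≃ₗ[F] V} {a b θ : F}
  (hw : IsCox H m e f w a b) (ht : IsTor σ H e f t θ)

include hσ fr hm hw ht in
/-- Step 1+2: the root group of `u` lies in the subgroup -/
theorem even_line (hθ : ∀ x : F, x ≠ 0 → ∃ k : ℕ, x = θ ^ k) (hθ0 : θ ≠ 0)
    (hgen : ∀ Γ : AddSubgroup F, ∀ γ₀ ∈ Γ, γ₀ ≠ 0 → (∀ γ ∈ Γ, (σ θ) ^ 2 * γ ∈ Γ) → Γ = ⊤)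
    (K : Subgroup (V ≃ₗ[F] V)) (htK : t ∈ K)
    (hyK : eich h (e 0) (f 1) 0 (fr.ee 0 0 (by omega) (by omega))
      (by rw [fr.fe 1 0 (by omega) (by omega), if_neg (by omega)]) * w ∈ K) :
    evenP h K (e 0) (f 1) := by
  have hσ2 := WittHerm.sigma_sigma hσ
  have hp := fr.hPairs
  have he0 : H (e 0) (e 0) = 0 := fr.ee 0 0 (by omega) (by omega)
  have hf10 : H (f 1) (e 0) = 0 := by rw [fr.fe 1 0 (by omega) (by omega), if_neg (by omega)]
  have hf11 : H (f 1) (f 1) = 0 := fr.ff 1 1 (by omega) (by omega)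
  have hc0' : (0 : F) + σ 0 + H (f 1) (f 1) = 0 := by rw [hf11, map_zero, add_zero, add_zero]
  set u := eich h (e 0) (f 1) 0 he0 hf10 with hu
  have ht'i : w * t * w⁻¹ ∈ isom H :=
    (isom H).mul_mem ((isom H).mul_mem hw.isom ht.isom) ((isom H).inv_mem hw.isom)
  have ht'e : (w * t * w⁻¹) (e 0) = θ⁻¹ • e 0 :=
    conj_diag_apply (k := 1) one_ne_zero (by rw [one_smul]; exact hw.e_succ 0 (by omega)) ht.e_one
  have hσθ0 : σ θ ≠ 0 := fun h0 => hθ0 ((map_eq_zero σ).mp h0)
  -- the action of the conjugate torus on `f 1`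
  obtain ⟨b', ht'f, hb'⟩ : ∃ b' : F, (w * t * w⁻¹) (f 1) = b' • f 1 ∧ σ θ⁻¹ * b' ≠ 1 := by
    rcases Nat.lt_or_ge 2 m with h3 | h3
    · refine ⟨1, conj_diag_apply (k := 1) one_ne_zero
        (by rw [one_smul]; exact hw.f_succ 1 (by omega)) ?_, ?_⟩
      · rw [one_smul]
        apply ht.fix
        · rw [fr.fe 2 0 (by omega) (by omega), if_neg (by omega)]
        · rw [fr.fe 2 1 (by omega) (by omega), if_neg (by omega)]
        · exact fr.ff 2 0 (by omega) (by omega)
        · exact fr.ff 2 1 (by omega) (by omega)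
      · rw [mul_one, map_inv₀]
        intro h1
        have h2 : σ θ = 1 := inv_eq_one.mp h1
        apply gen_ne_one hσ hθ
        rw [← hσ2 θ, h2, map_one]
    · have hm2 : m = 2 := by omega
      refine ⟨θ, conj_diag_apply hw.ha (by rw [hw.e_zero, hm2]) ht.e_zero, ?_⟩
      rw [map_inv₀]
      intro h1
      apply gen_sigma_ne hσ hθ
      field_simp at h1
      exact h1.symm
  have hcomm : t * (w * t * w⁻¹) = (w * t * w⁻¹) * t :=
    comm_of_diag0 fr t (w * t * w⁻¹) (tor_diag_e hp hm ht) (tor_diag_f hp hm ht)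
      (tor'_diag_e hp hm hw ht) (tor'_diag_f hp hm hw ht)
  have hAK : u * (w * t * w⁻¹) * u⁻¹ ∈ K := by
    have h1 : (u * w) * t * (u * w)⁻¹ ∈ K := K.mul_mem (K.mul_mem hyK htK) (K.inv_mem hyK)
    have h2 : (u * w) * t * (u * w)⁻¹ = u * (w * t * w⁻¹) * u⁻¹ := by group
    rwa [h2] at h1
  have hx0 : H (f 0) (e 0) ≠ 0 := by
    rw [fr.fe 0 0 (by omega) (by omega), if_pos rfl]
    exact one_ne_zero
  obtain ⟨C, hC, hC0⟩ := extract hσ2 h he0 hf10 hc0' hx0 ht.isom ht'i hcomm ht.e_zero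
    ht.f_one ht'e ht'f
  have hC0' : C = 0 := hC0 rfl hf11
  subst hC0'
  set γ := (σ θ * σ θ - 1) * (1 - σ θ⁻¹ * b') with hγ
  have hγK : eich h (e 0) (γ • f 1) 0 he0 (by rw [h.smul_left, hf10, mul_zero]) ∈ K := by
    rw [← hC]
    exact K.mul_mem (K.mul_mem (K.mul_mem htK hAK) (K.inv_mem htK)) (K.inv_mem hAK)
  -- the additive subgroup of the `β`
  have hzβ : ∀ β : F, H (β • f 1) (e 0) = 0 := fun β => by rw [h.smul_left, hf10, mul_zero]
  let Γ : AddSubgroup F :=
    { carrier := {β | eich h (e 0) (β • f 1) 0 he0 (hzβ β) ∈ K}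
      zero_mem' := by
        show eich h (e 0) ((0 : F) • f 1) 0 he0 (hzβ 0) ∈ K
        rw [eich_congr h he0 (hzβ 0) rfl (zero_smul F (f 1)) rfl, eich_zero_zero]
        exact K.one_mem
      add_mem' := by
        intro x y hx hy
        show eich h (e 0) ((x + y) • f 1) 0 he0 (hzβ (x + y)) ∈ K
        have hx' : eich h (e 0) (x • f 1) 0 he0 (hzβ x) ∈ K := hx
        have hy' : eich h (e 0) (y • f 1) 0 he0 (hzβ y) ∈ K := hy
        have h1 := K.mul_mem hx' hy'
        rw [eich_mul] at h1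
        rw [eich_congr h he0 (hzβ (x + y)) rfl (add_smul x y (f 1))
          (show (0 : F) = 0 + 0 - H (y • f 1) (x • f 1) by
            rw [h.smul_left, h.smul_right, hf11]; ring)]
        exact h1
      neg_mem' := by
        intro x hx
        show eich h (e 0) ((-x) • f 1) 0 he0 (hzβ (-x)) ∈ K
        have hx' : eich h (e 0) (x • f 1) 0 he0 (hzβ x) ∈ K := hx
        have h1 := K.inv_mem hx'
        rw [eich_inv h (e 0) (x • f 1) 0 he0 (hzβ x)
          (by rw [h.smul_left, h.smul_right, hf11]; simp)] at h1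
        rw [eich_congr h he0 (hzβ (-x)) rfl (neg_smul x (f 1)) (map_zero σ).symm]
        exact h1 }
  have hγ0 : γ ≠ 0 := by
    rw [hγ]
    refine mul_ne_zero (sub_ne_zero.mpr ?_) (sub_ne_zero.mpr hb'.symm)
    intro h1
    apply gen_sq_ne_one hσ hθ hθ0
    have h2 : σ (θ ^ 2) = 1 := by rw [map_pow, pow_two, h1]
    rw [← hσ2 (θ ^ 2), h2, map_one]
  have hΓ : Γ = ⊤ := by
    apply hgen Γ γ hγK hγ0
    intro β hβ
    have hβ' : eich h (e 0) (β • f 1) 0 he0 (hzβ β) ∈ K := hβ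
    have h1 : t * eich h (e 0) (β • f 1) 0 he0 (hzβ β) * t⁻¹ ∈ K :=
      K.mul_mem (K.mul_mem htK hβ') (K.inv_mem htK)
    rw [conj_eich_diag hσ2 h ht.isom (e 0) (β • f 1) 0 he0 (hzβ β) ht.e_zero
      (show t (β • f 1) = σ θ • (β • f 1) by rw [map_smul, ht.f_one, smul_comm])] at h1
    show eich h (e 0) (((σ θ) ^ 2 * β) • f 1) 0 he0 (hzβ _) ∈ K
    rw [eich_congr h he0 (hzβ _) rfl (show ((σ θ) ^ 2 * β) • f 1 = (σ θ * σ θ) • (β • f 1) by
      rw [smul_smul, pow_two]) (show (0 : F) = θ * σ θ * 0 by rw [mul_zero])]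
    exact h1
  intro β hp' hz
  have : β ∈ Γ := by rw [hΓ]; exact AddSubgroup.mem_top β
  exact this

include hσ fr hm hw ht in
/-- the even core -/
theorem core_even (hnd : ∀ v, (∀ w, H v w = 0) → v = 0)
    (hθ : ∀ x : F, x ≠ 0 → ∃ k : ℕ, x = θ ^ k) (hθ0 : θ ≠ 0)
    (hgen : ∀ Γ : AddSubgroup F, ∀ γ₀ ∈ Γ, γ₀ ≠ 0 → (∀ γ ∈ Γ, (σ θ) ^ 2 * γ ∈ Γ) → Γ = ⊤) :
    T h ≤ Subgroup.closure {t, eich h (e 0) (f 1) 0 (fr.ee 0 0 (by omega) (by omega))
      (by rw [fr.fe 1 0 (by omega) (by omega), if_neg (by omega)]) * w} := by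
  have hσ2 := WittHerm.sigma_sigma hσ
  have hp := fr.hPairs
  have he0 : H (e 0) (e 0) = 0 := fr.ee 0 0 (by omega) (by omega)
  have hf10 : H (f 1) (e 0) = 0 := by rw [fr.fe 1 0 (by omega) (by omega), if_neg (by omega)]
  have hf11 : H (f 1) (f 1) = 0 := fr.ff 1 1 (by omega) (by omega)
  obtain ⟨K, hK⟩ : ∃ K : Subgroup (V ≃ₗ[F] V), K = Subgroup.closure
      {t, eich h (e 0) (f 1) 0 he0 hf10 * w} := ⟨_, rfl⟩
  rw [← hK]
  have htK : t ∈ K := by
    rw [hK]
    exact Subgroup.subset_closure (by simp)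
  have hyK : eich h (e 0) (f 1) 0 he0 hf10 * w ∈ K := by
    rw [hK]
    exact Subgroup.subset_closure (by simp)
  have hP01 := even_line hσ h fr hm hw ht hθ hθ0 hgen K htK hyK
  have huK : eich h (e 0) (f 1) 0 he0 hf10 ∈ K := by
    have h1 := hP01 1 he0 (by rw [one_smul]; exact hf10)
    rw [eich_congr h he0 hf10 rfl (one_smul F (f 1)).symm rfl]
    exact h1
  have hwK : w ∈ K := by
    have h1 := K.mul_mem (K.inv_mem huK) hyK
    rwa [inv_mul_cancel_left] at h1
  have hwiK : w⁻¹ ∈ K := K.inv_mem hwK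
  have hwi : w⁻¹ ∈ isom H := (isom H).inv_mem hw.isom
  -- the root groups `(e_j, f_{j+1})`
  have hPj : ∀ j, j + 1 < m → evenP h K (e j) (f (j + 1)) := by
    intro j
    induction j with
    | zero => intro _; exact hP01
    | succ j ih =>
      intro hj
      have h1 := evenP_map h K hwi hwiK
        (by rw [fr.fe (j + 1) j (by omega) (by omega), if_neg (by omega)]) (ih (by omega))
      rw [inv_apply_eq_of_apply_eq (hw.e_succ j (by omega)),
        inv_apply_eq_of_apply_eq (hw.f_succ (j + 1) (by omega))] at h1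
      exact h1
  -- the root group `(e_0, e_{m-1})`
  have hP0m : evenP h K (e 0) (e (m - 1)) := by
    obtain ⟨j, hj⟩ : ∃ j, m = j + 2 := ⟨m - 2, by omega⟩
    have h1 := evenP_map h K hwi hwiK
      (by rw [fr.fe (j + 1) j (by omega) (by omega), if_neg (by omega)]) (hPj j (by omega))
    have h2 : w (a⁻¹ • e 0) = f (j + 1) := by
      rw [map_smul, hw.e_zero, smul_smul, inv_mul_cancel₀ hw.ha, one_smul]
      congr 1
      omega
    rw [inv_apply_eq_of_apply_eq (hw.e_succ j (by omega)), inv_apply_eq_of_apply_eq h2] at h1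
    have h3 := evenP_smul_right h K (inv_ne_zero hw.ha)
      (fr.ee 0 (j + 1) (by omega) (by omega)) h1
    have h4 := evenP_symm h hσ2 K (fr.ee (j + 1) (j + 1) (by omega) (by omega))
      (fr.ee 0 (j + 1) (by omega) (by omega)) h3
    have h5 : m - 1 = j + 1 := by omega
    rw [h5]
    exact h4
  -- the trace
  have hA : ∀ z : V, H z z = 0 → H z (e 0) = 0 → evenP h K (e 0) z →
      ∀ β : F, β • z ∈ aSet h K (e 0) he0 := by
    intro z hzz hz0 hP β
    refine ⟨by rw [h.smul_left, hz0, mul_zero], 0, ?_, hP β he0 _⟩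
    rw [h.smul_left, h.smul_right, hzz]
    simp
  have hmove : ∀ (j : ℕ) (_ : 1 ≤ j) (_ : j + 1 < m) (β : F), ∀ z ∈ aSet h K (e 0) he0,
      eich h (e j) (β • f (j + 1)) 0 (fr.ee j j (by omega) (by omega))
        (by rw [h.smul_left, fr.fe (j + 1) j (by omega) (by omega), if_neg (by omega),
          mul_zero]) z ∈ aSet h K (e 0) he0 := by
    intro j hj1 hjm β z hz
    have hz1 : H (β • f (j + 1)) (e j) = 0 := by
      rw [h.smul_left, fr.fe (j + 1) j (by omega) (by omega), if_neg (by omega), mul_zero]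
    have hgK := hPj j hjm β (fr.ee j j (by omega) (by omega)) hz1
    have hgi := eich_mem_isom h (e j) (β • f (j + 1)) 0 (fr.ee j j (by omega) (by omega)) hz1
      (by rw [h.smul_left, h.smul_right, fr.ff (j + 1) (j + 1) hjm hjm]; simp)
    refine aSet_map h K (e 0) he0 hgK hgi ?_ hz
    apply eich_apply_of_orth h (e j) _ 0 _ hz1 (e 0) (fr.ee 0 j (by omega) (by omega))
    rw [h.smul_right, fr.ef 0 (j + 1) (by omega) hjm, if_neg (by omega), mul_zero]
  have hlf : ∀ j, 1 ≤ j → j < m → ∀ β : F, β • f j ∈ aSet h K (e 0) he0 := by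
    intro j hj1
    induction j, hj1 using Nat.le_induction with
    | base => intro _; exact hA (f 1) hf11 hf10 hP01
    | succ j hj1 ih =>
      intro hjm β
      have h1 := hmove j hj1 hjm β _ (ih (by omega) 1)
      rw [eich_apply, one_smul, fr.fe j j (by omega) (by omega), if_pos rfl, one_smul,
        h.smul_right, fr.ff j (j + 1) (by omega) hjm, mul_zero, zero_smul, sub_zero, mul_one,
        zero_smul, add_zero] at h1
      have h2 := aSet_sub h K (e 0) he0 h1 (ih (by omega) 1)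
      rwa [one_smul, add_sub_cancel_left] at h2
  have hle : ∀ k, k + 1 < m → ∀ β : F, β • e (m - 1 - k) ∈ aSet h K (e 0) he0 := by
    intro k
    induction k with
    | zero =>
      intro _
      rw [Nat.sub_zero]
      exact hA (e (m - 1)) (fr.ee _ _ (by omega) (by omega)) (fr.ee _ _ (by omega) (by omega)) hP0m
    | succ k ih =>
      intro hk β
      obtain ⟨j, hj⟩ : ∃ j, m - 1 - k = j + 1 := ⟨m - 1 - k - 1, by omega⟩
      have hj' : m - 1 - (k + 1) = j := by omega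
      rw [hj']
      have ih' := ih (by omega)
      rw [hj] at ih'
      have h1 := hmove j (by omega) (by omega) (-(σ β)) _ (ih' 1)
      rw [eich_apply, one_smul, fr.ee (j + 1) j (by omega) (by omega), zero_smul, add_zero,
        h.smul_right, fr.ef (j + 1) (j + 1) (by omega) (by omega), if_pos rfl, mul_one, mul_zero,
        zero_smul, add_zero, map_neg, hσ2] at h1
      have h2 := aSet_sub h K (e 0) he0 h1 (ih' 1)
      rw [one_smul, sub_sub_cancel_left, neg_smul, neg_neg] at h2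
      exact h2
  have hle' : ∀ j, 1 ≤ j → j < m → ∀ β : F, β • e j ∈ aSet h K (e 0) he0 := by
    intro j hj1 hjm
    have h1 := hle (m - 1 - j) (by omega)
    have h2 : m - 1 - (m - 1 - j) = j := by omega
    rwa [h2] at h1
  have hall : ∀ z : V, H z (e 0) = 0 → z ∈ aSet h K (e 0) he0 := by
    intro z hz
    rw [fr.expand z]
    apply aSet_sum
    intro i hi
    have him := Finset.mem_range.mp hi
    rcases Nat.eq_zero_or_pos i with h0 | h0
    · subst h0
      rw [hz, zero_smul, add_zero]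
      exact aSet_smul_e0 h K (e 0) he0 hσ2 _
    · exact aSet_add h K (e 0) he0 (hle' i h0 him _) (hlf i h0 him _)
  -- the central transvections
  have htv : ∀ s : F, σ s = -s → tv h (e 0) s he0 ∈ K := by
    intro s hs
    obtain ⟨l, hl⟩ := exists_sub_eq_of_skew hσ s hs
    obtain ⟨hz1, c1, hc1, hK1⟩ := hle' 1 le_rfl (by omega) 1
    obtain ⟨hz2, c2, hc2, hK2⟩ := hlf 1 le_rfl (by omega) l
    have h1 := comm_tv_mem h K (e 0) he0 hz1 hz2 hc1 hc2 hK1 hK2
    have h2 : H (l • f 1) ((1 : F) • e 1) - H ((1 : F) • e 1) (l • f 1) = s := by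
      rw [h.smul_left, h.smul_right, h.smul_left, h.smul_right, fr.fe 1 1 (by omega) (by omega),
        fr.ef 1 1 (by omega) (by omega), if_pos rfl, map_one, ← hl]
      ring
    rwa [h2] at h1
  have hQ : ∀ (z : V) (c : F) (hz : H z (e 0) = 0), c + σ c + H z z = 0 →
      eich h (e 0) z c he0 hz ∈ K := by
    intro z c hz hc
    obtain ⟨hz1, c1, hc1, hK1⟩ := hall z hz
    refine eich_mem_of_tv_mem h K (e 0) he0 hz hK1 (htv (c - c1) ?_)
    rw [map_sub]
    linear_combination hc - hc1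
  have hpow := cox_pow_e_zero hw (m - 1) (by omega)
  have hm1 : m - 1 + 1 = m := by omega
  rw [hm1, Nat.sub_self] at hpow
  refine endgame hσ2 h hnd (exists_trace_eq hσ) K (e 0) he0 hQ (w ^ m) (K.pow_mem hwK m)
    ((isom H).pow_mem hw.isom m) ?_
  rw [hpow, h.smul_left, fr.fe 0 0 (by omega) (by omega), if_pos rfl, mul_one]
  exact hw.ha

end

end Cfsg.Agent.Lib.Helper1.SUT
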