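import Mathlib
import Cfsg.Agent.Lib.Helper1.SUT.Common

set_option autoImplicit false

/-!
The odd core: in dimension `2m+1 ≥ 5`, the torus element `t` and `y = E_{e_0}(d,c_0) w`
(`w` a Coxeter element) generate a subgroup containing all unitary transvections.
-/

namespace Cfsg.Agent.Lib.Helper1.SUT

open Module Cfsg.Agent.Lib.Helper2 Cfsg.Agent.Lib.Helper2.IsomDecomp Cfsg.Agent.Lib.Helper2.UT
  Cfsg.Agent.Lib.Helper5.PSLCoset Cfsg.Agent.Lib.Helper1.SUR

variable {F : Type*} [Field F] {σ : F ≃+* F} {V : Type*} [AddCommGroup V] [Module F V]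
  {H : V → V → F}

section
variable (hσ : orderOf σ = 2) (h : IsHerm σ H) {m : ℕ} {e f : ℕ → V} {d : V}
  (fr : Frame H m e f d) (hm : 2 ≤ m) {w t : V ≃ₗ[F] V} {a b θ : F}
  (hw : IsCox H m e f w a b) (ht : IsTor σ H e f t θ) (wd : w d = d)

include hσ fr hm hw ht wd in
/-- Step 1+2: the subgroup contains, for every `β`, some `E_{e_0}(β d, c)` -/
theorem odd_line (hθ : ∀ x : F, x ≠ 0 → ∃ k : ℕ, x = θ ^ k)
    {c0 : F} (hc0 : c0 + σ c0 + 1 = 0) (K : Subgroup (V ≃ₗ[F] V)) (htK : t ∈ K)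
    (hyK : eich h (e 0) d c0 (fr.ee 0 0 (by omega) (by omega)) (fr.de 0 (by omega)) * w ∈ K)
    (β : F) : β • d ∈ aSet h K (e 0) (fr.ee 0 0 (by omega) (by omega)) := by
  have hσ2 := WittHerm.sigma_sigma hσ
  have hp := hPairs_of_frame fr
  have he0 : H (e 0) (e 0) = 0 := fr.ee 0 0 (by omega) (by omega)
  have hd0 : H d (e 0) = 0 := fr.de 0 (by omega)
  have hc0' : c0 + σ c0 + H d d = 0 := by rw [fr.dd]; exact hc0
  set u := eich h (e 0) d c0 he0 hd0 with hu
  -- the conjugate torus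
  have ht'i : w * t * w⁻¹ ∈ isom H :=
    (isom H).mul_mem ((isom H).mul_mem hw.isom ht.isom) ((isom H).inv_mem hw.isom)
  have htd : t d = d := ht.fix d (fr.de 0 (by omega)) (fr.de 1 (by omega)) (fr.df 0 (by omega))
    (fr.df 1 (by omega))
  have ht'e : (w * t * w⁻¹) (e 0) = θ⁻¹ • e 0 :=
    conj_diag_apply (k := 1) one_ne_zero (by rw [one_smul]; exact hw.e_succ 0 (by omega)) ht.e_one
  have ht'd : (w * t * w⁻¹) d = (1 : F) • d :=
    conj_diag_apply (k := 1) one_ne_zero (by rw [one_smul]; exact wd) (by rw [one_smul]; exact htd)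
  have hcomm : t * (w * t * w⁻¹) = (w * t * w⁻¹) * t :=
    comm_of_diag fr t (w * t * w⁻¹) (tor_diag_e hp hm ht) (tor_diag_f hp hm ht)
      ⟨1, by rw [one_smul]; exact htd⟩ (tor'_diag_e hp hm hw ht) (tor'_diag_f hp hm hw ht)
      ⟨1, ht'd⟩
  -- the conjugate of `t` by `y`
  have hAK : u * (w * t * w⁻¹) * u⁻¹ ∈ K := by
    have h1 : (u * w) * t * (u * w)⁻¹ ∈ K := K.mul_mem (K.mul_mem hyK htK) (K.inv_mem hyK)
    have h2 : (u * w) * t * (u * w)⁻¹ = u * (w * t * w⁻¹) * u⁻¹ := by group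
    rwa [h2] at h1
  have hx0 : H (f 0) (e 0) ≠ 0 := by
    rw [fr.fe 0 0 (by omega) (by omega), if_pos rfl]
    exact one_ne_zero
  obtain ⟨C, hC, -⟩ := extract hσ2 h he0 hd0 hc0' hx0 ht.isom ht'i hcomm ht.e_zero
    (show t d = (1 : F) • d by rw [one_smul]; exact htd) ht'e ht'd
  set γ := (σ θ * 1 - 1) * (1 - σ θ⁻¹ * 1) with hγ
  have hγK : eich h (e 0) (γ • d) C he0 (by rw [h.smul_left, hd0, mul_zero]) ∈ K := by
    rw [← hC]
    exact K.mul_mem (K.mul_mem (K.mul_mem htK hAK) (K.inv_mem htK)) (K.inv_mem hAK)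
  have hγi : eich h (e 0) (γ • d) C he0 (by rw [h.smul_left, hd0, mul_zero]) ∈ isom H := by
    rw [← hC]
    have hui : u ∈ isom H := eich_mem_isom h (e 0) d c0 he0 hd0 hc0'
    have hAi : u * (w * t * w⁻¹) * u⁻¹ ∈ isom H :=
      (isom H).mul_mem ((isom H).mul_mem hui ht'i) ((isom H).inv_mem hui)
    exact (isom H).mul_mem ((isom H).mul_mem ((isom H).mul_mem ht.isom hAi)
      ((isom H).inv_mem ht.isom)) ((isom H).inv_mem hAi)
  have hγv := eich_valid_of_isom h (e 0) (γ • d) C he0 (by rw [h.smul_left, hd0, mul_zero]) hx0 hγi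
  have hγA : γ • d ∈ aSet h K (e 0) he0 := ⟨by rw [h.smul_left, hd0, mul_zero], C, hγv, hγK⟩
  -- the additive subgroup of the `β`
  let Γ : AddSubgroup F :=
    { carrier := {β | β • d ∈ aSet h K (e 0) he0}
      zero_mem' := by
        show (0 : F) • d ∈ aSet h K (e 0) he0
        rw [zero_smul]
        exact aSet_zero h K (e 0) he0
      add_mem' := by
        intro x y hx hy
        show (x + y) • d ∈ aSet h K (e 0) he0
        rw [add_smul]
        exact aSet_add h K (e 0) he0 hx hy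
      neg_mem' := by
        intro x hx
        show (-x) • d ∈ aSet h K (e 0) he0
        rw [neg_smul]
        exact aSet_neg h K (e 0) he0 hx }
  have hθ1 : θ ≠ 1 := gen_ne_one hσ hθ
  have hσθ1 : σ θ ≠ 1 := fun h1 => hθ1 (by rw [← hσ2 θ, h1, map_one])
  have hγ0 : γ ≠ 0 := by
    rw [hγ, mul_one, mul_one]
    refine mul_ne_zero (sub_ne_zero.mpr hσθ1) (sub_ne_zero.mpr ?_)
    intro h1
    apply hσθ1
    rw [map_inv₀] at h1
    exact (inv_eq_one.mp h1.symm)
  have hΓ : Γ = ⊤ := by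
    apply addSubgroup_eq_top Γ (σ θ) γ (gen_sigma hσ2 hθ) hγA hγ0
    intro β hβ
    obtain ⟨hz, c, hc, hK⟩ := hβ
    have h1 : t * eich h (e 0) (β • d) c he0 hz * t⁻¹ ∈ K :=
      K.mul_mem (K.mul_mem htK hK) (K.inv_mem htK)
    have h2 : t * eich h (e 0) (β • d) c he0 hz * t⁻¹ ∈ isom H :=
      (isom H).mul_mem ((isom H).mul_mem ht.isom (eich_mem_isom h (e 0) (β • d) c he0 hz hc))
        ((isom H).inv_mem ht.isom)
    rw [conj_eich_diag hσ2 h ht.isom (e 0) (β • d) c he0 hz ht.e_zero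
      (show t (β • d) = (1 : F) • (β • d) by rw [map_smul, htd, one_smul])] at h1 h2
    have hz' : H ((β * σ θ) • d) (e 0) = 0 := by rw [h.smul_left, hd0, mul_zero]
    have h3 : eich h (e 0) ((β * σ θ) • d) (θ * σ θ * c) he0 hz' ∈ K := by
      rw [eich_congr h he0 hz' rfl (show (β * σ θ) • d = (σ θ * 1) • (β • d) by
        rw [smul_smul]; congr 1; ring) rfl]
      exact h1
    have h4 : eich h (e 0) ((β * σ θ) • d) (θ * σ θ * c) he0 hz' ∈ isom H := by
      rw [eich_congr h he0 hz' rfl (show (β * σ θ) • d = (σ θ * 1) • (β • d) by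
        rw [smul_smul]; congr 1; ring) rfl]
      exact h2
    exact ⟨hz', θ * σ θ * c, eich_valid_of_isom h (e 0) _ _ he0 hz' hx0 h4, h3⟩
  have : β ∈ Γ := by rw [hΓ]; exact AddSubgroup.mem_top β
  exact this

/-- the full root group `{E_p(β d, c)}` lies in `K` -/
def oddP (h : IsHerm σ H) (K : Subgroup (V ≃ₗ[F] V)) (d p : V) : Prop :=
  ∀ (β c : F) (hp' : H p p = 0) (hz : H (β • d) p = 0),
    c + σ c + H (β • d) (β • d) = 0 → eich h p (β • d) c hp' hz ∈ K

theorem oddP_map (K : Subgroup (V ≃ₗ[F] V)) {g : V ≃ₗ[F] V} (hg : g ∈ isom H) (hgK : g ∈ K)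
    {d p : V} (hgd : g d = d) (hP : oddP h K d p) : oddP h K d (g p) := by
  intro β c hp' hz hc
  have hwβ : g (β • d) = β • d := by rw [map_smul, hgd]
  have hpp : H p p = 0 := by rw [← hg p p]; exact hp'
  have hzp : H (β • d) p = 0 := by rw [← hg (β • d) p, hwβ]; exact hz
  have h1 := K.mul_mem (K.mul_mem hgK (hP β c hpp hzp hc)) (K.inv_mem hgK)
  rw [conj_eich h hg] at h1
  rw [eich_congr h hp' hz rfl hwβ.symm rfl]
  exact h1

theorem oddP_smul (hσ2 : ∀ a : F, σ (σ a) = a) (K : Subgroup (V ≃ₗ[F] V)) {d p : V} {k : F}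
    (hk : k ≠ 0) (hdp : H d p = 0) (hP : oddP h K d (k • p)) : oddP h K d p := by
  intro β c hp' hz hc
  have hσk : σ k ≠ 0 := fun h0 => hk ((map_eq_zero σ).mp h0)
  have hkp : H (k • p) (k • p) = 0 := by
    rw [h.smul_left, h.smul_right, hp', mul_zero, mul_zero]
  have hzk : H (((σ k)⁻¹ * β) • d) (k • p) = 0 := by
    rw [h.smul_left, h.smul_right, hdp, mul_zero, mul_zero]
  have hval : (k * σ k)⁻¹ * c + σ ((k * σ k)⁻¹ * c) +
      H (((σ k)⁻¹ * β) • d) (((σ k)⁻¹ * β) • d) = 0 := by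
    rw [h.smul_left, h.smul_right] at hc ⊢
    rw [map_mul, map_inv₀, map_mul, hσ2, map_mul, map_inv₀, hσ2]
    field_simp
    linear_combination hc
  have h1 := hP ((σ k)⁻¹ * β) ((k * σ k)⁻¹ * c) hkp hzk hval
  rw [eich_smul_left hσ2 h p _ k _ hp' (by rw [h.smul_left, hdp, mul_zero])] at h1
  rw [eich_congr h hp' hz rfl (show β • d = σ k • ((σ k)⁻¹ * β) • d by
    rw [smul_smul, ← mul_assoc, mul_inv_cancel₀ hσk, one_mul]) (show c = k * σ k * ((k * σ k)⁻¹ * c) by
    rw [← mul_assoc, mul_inv_cancel₀ (mul_ne_zero hk hσk), one_mul])]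
  exact h1

include hσ fr hm hw ht wd in
/-- the odd core -/
theorem core_odd (hnd : ∀ v, (∀ w, H v w = 0) → v = 0)
    (hθ : ∀ x : F, x ≠ 0 → ∃ k : ℕ, x = θ ^ k)
    {c0 : F} (hc0 : c0 + σ c0 + 1 = 0) :
    T h ≤ Subgroup.closure {t, eich h (e 0) d c0 (fr.ee 0 0 (by omega) (by omega))
      (fr.de 0 (by omega)) * w} := by
  have hσ2 := WittHerm.sigma_sigma hσ
  have hp := hPairs_of_frame fr
  have he0 : H (e 0) (e 0) = 0 := fr.ee 0 0 (by omega) (by omega)
  have hd0 : H d (e 0) = 0 := fr.de 0 (by omega)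
  have hc0' : c0 + σ c0 + H d d = 0 := by rw [fr.dd]; exact hc0
  obtain ⟨K, hK⟩ : ∃ K : Subgroup (V ≃ₗ[F] V), K = Subgroup.closure
      {t, eich h (e 0) d c0 he0 hd0 * w} := ⟨_, rfl⟩
  rw [← hK]
  have htK : t ∈ K := by
    rw [hK]
    exact Subgroup.subset_closure (by simp)
  have hyK : eich h (e 0) d c0 he0 hd0 * w ∈ K := by
    rw [hK]
    exact Subgroup.subset_closure (by simp)
  have hline := odd_line hσ h fr hm hw ht wd hθ hc0 K htK hyK
  -- Step 3: the central transvections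
  have htv : ∀ s : F, σ s = -s → tv h (e 0) s he0 ∈ K := by
    intro s hs
    obtain ⟨l, hl⟩ := exists_sub_eq_of_skew hσ s hs
    obtain ⟨hz1, c1, hc1, hK1⟩ := hline 1
    obtain ⟨hz2, c2, hc2, hK2⟩ := hline l
    have h1 := comm_tv_mem h K (e 0) he0 hz1 hz2 hc1 hc2 hK1 hK2
    have h2 : H (l • d) ((1 : F) • d) - H ((1 : F) • d) (l • d) = s := by
      rw [h.smul_left, h.smul_right, h.smul_left, h.smul_right, fr.dd, map_one, ← hl]
      ring
    rwa [h2] at h1
  -- Step 4: the full root group at `e 0`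
  have hfull : ∀ (z : V) (hz : z ∈ aSet h K (e 0) he0) (c : F) (hz' : H z (e 0) = 0),
      c + σ c + H z z = 0 → eich h (e 0) z c he0 hz' ∈ K := by
    intro z hz c hz' hc
    obtain ⟨hz1, c1, hc1, hK1⟩ := hz
    refine eich_mem_of_tv_mem h K (e 0) he0 hz' hK1 (htv (c - c1) ?_)
    rw [map_sub]
    linear_combination hc - hc1
  have huK : eich h (e 0) d c0 he0 hd0 ∈ K := by
    have h1 := hfull ((1 : F) • d) (hline 1) c0 (by rw [one_smul]; exact hd0)
      (by rw [one_smul]; exact hc0')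
    rw [eich_congr h he0 hd0 rfl (one_smul F d).symm rfl]
    exact h1
  have hwK : w ∈ K := by
    have h1 := K.mul_mem (K.inv_mem huK) hyK
    rwa [inv_mul_cancel_left] at h1
  -- Step 5: the root groups at all frame vectors
  have hP0 : oddP h K d (e 0) := by
    intro β c hp' hz hc
    exact hfull (β • d) (hline β) c hz hc
  have hPf : ∀ j, j < m → oddP h K d (f (m - 1 - j)) := by
    intro j
    induction j with
    | zero =>
      intro _
      rw [Nat.sub_zero]
      have h1 := oddP_map h K hw.isom hwK wd hP0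
      rw [hw.e_zero] at h1
      exact oddP_smul h hσ2 K hw.ha (fr.df (m - 1) (by omega)) h1
    | succ j ih =>
      intro hj
      have h1 := oddP_map h K hw.isom hwK wd (ih (by omega))
      obtain ⟨i, hi⟩ : ∃ i, m - 1 - j = i + 1 := ⟨m - 1 - j - 1, by omega⟩
      rw [hi, hw.f_succ i (by omega)] at h1
      have h2 : m - 1 - (j + 1) = i := by omega
      rw [h2]
      exact h1
  have hPf' : ∀ i, i < m → oddP h K d (f i) := by
    intro i hi
    have h1 := hPf (m - 1 - i) (by omega)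
    have h2 : m - 1 - (m - 1 - i) = i := by omega
    rwa [h2] at h1
  have hPe : ∀ j, j < m → oddP h K d (e (m - 1 - j)) := by
    intro j
    induction j with
    | zero =>
      intro _
      rw [Nat.sub_zero]
      have h1 := oddP_map h K hw.isom hwK wd (hPf' 0 (by omega))
      rw [hw.f_zero] at h1
      exact oddP_smul h hσ2 K hw.hb (fr.de (m - 1) (by omega)) h1
    | succ j ih =>
      intro hj
      have h1 := oddP_map h K hw.isom hwK wd (ih (by omega))
      obtain ⟨i, hi⟩ : ∃ i, m - 1 - j = i + 1 := ⟨m - 1 - j - 1, by omega⟩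
      rw [hi, hw.e_succ i (by omega)] at h1
      have h2 : m - 1 - (j + 1) = i := by omega
      rw [h2]
      exact h1
  have hPe' : ∀ i, i < m → oddP h K d (e i) := by
    intro i hi
    have h1 := hPe (m - 1 - i) (by omega)
    have h2 : m - 1 - (m - 1 - i) = i := by omega
    rwa [h2] at h1
  -- Step 6: the lines `F e_j`, `F f_j` (`j ≥ 1`) in the trace
  have hmove : ∀ p : V, H p p = 0 → H d p = 0 → H (e 0) p = 0 → oddP h K d p →
      ∀ β : F, β • p ∈ aSet h K (e 0) he0 := by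
    intro p hpp hdp he0p hP β
    have hz1 : H ((1 : F) • d) p = 0 := by rw [one_smul]; exact hdp
    have hv1 : c0 + σ c0 + H ((1 : F) • d) ((1 : F) • d) = 0 := by rw [one_smul]; exact hc0'
    have hgK := hP 1 c0 hpp hz1 hv1
    have hgi := eich_mem_isom h p ((1 : F) • d) c0 hpp hz1 hv1
    have hge : eich h p ((1 : F) • d) c0 hpp hz1 (e 0) = e 0 := by
      apply eich_apply_of_orth h p _ c0 hpp hz1 (e 0) he0p
      rw [one_smul, h.symm d (e 0), hd0, map_zero]
    have h1 := aSet_map h K (e 0) he0 hgK hgi hge (hline β)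
    rw [eich_apply, h.smul_left, hdp, mul_zero, zero_smul, add_zero, mul_zero, zero_smul, add_zero,
      h.smul_left, one_smul, fr.dd, mul_one] at h1
    have h2 := aSet_sub h K (e 0) he0 (hline β) h1
    rwa [sub_sub_cancel] at h2
  have hle : ∀ j, 1 ≤ j → j < m → ∀ β : F, β • e j ∈ aSet h K (e 0) he0 := by
    intro j hj1 hjm
    exact hmove (e j) (fr.ee j j hjm hjm) (fr.de j hjm) (fr.ee 0 j (by omega) hjm) (hPe' j hjm)
  have hlf : ∀ j, 1 ≤ j → j < m → ∀ β : F, β • f j ∈ aSet h K (e 0) he0 := by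
    intro j hj1 hjm
    refine hmove (f j) (fr.ff j j hjm hjm) (fr.df j hjm) ?_ (hPf' j hjm)
    rw [fr.ef 0 j (by omega) hjm, if_neg (by omega)]
  -- Step 7: the trace is everything
  have hall : ∀ z : V, H z (e 0) = 0 → z ∈ aSet h K (e 0) he0 := by
    intro z hz
    rw [fr.expand z]
    apply aSet_add h K (e 0) he0 _ (hline _)
    apply aSet_sum
    intro i hi
    have him := Finset.mem_range.mp hi
    rcases Nat.eq_zero_or_pos i with h0 | h0
    · subst h0
      rw [hz, zero_smul, add_zero]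
      exact aSet_smul_e0 h K (e 0) he0 hσ2 _
    · exact aSet_add h K (e 0) he0 (hle i h0 him _) (hlf i h0 him _)
  -- Step 8: the end game
  have hQ : ∀ (z : V) (c : F) (hz : H z (e 0) = 0), c + σ c + H z z = 0 →
      eich h (e 0) z c he0 hz ∈ K := fun z c hz hc => hfull z (hall z hz) c hz hc
  have hpow := cox_pow_e_zero hw (m - 1) (by omega)
  have hm1 : m - 1 + 1 = m := by omega
  rw [hm1, Nat.sub_self] at hpow
  refine endgame hσ2 h hnd (exists_trace_eq hσ) K (e 0) he0 hQ (w ^ m) (K.pow_mem hwK m)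
    ((isom H).pow_mem hw.isom m) ?_
  rw [hpow, h.smul_left, fr.fe 0 0 (by omega) (by omega), if_pos rfl, mul_one]
  exact hw.ha

end

end Cfsg.Agent.Lib.Helper1.SUT
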