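import Mathlib
import Cfsg.Prelude
import Cfsg.Agent.Lib.Helper1.SUT.CoreOdd
import Cfsg.Agent.Lib.Helper1.SUT.CoreEven
import Cfsg.Agent.Lib.Helper7.SURFrame
import Cfsg.Agent.Lib.Helper1.HermCount
import Cfsg.Agent.Lib.Lead.SUTN
import Cfsg.Agent.Lib.Helper4.SUTTor
import Cfsg.Agent.Lib.Helper8.SUTCox
import Cfsg.Agent.Lib.Helper8.SUTFrame0
import Cfsg.Agent.Lib.Helper2.SUTField2
import Cfsg.Agent.Lib.Helper2.SUTWrap2

set_option autoImplicit false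

/-!
`PSU_n(q)`, `n ≥ 3`, `(n,q) ≠ (3,2)`, is generated by two elements (Steinberg's scheme:
`x = t` a torus element, `y = u w` a root element times a Coxeter element).
-/

namespace Cfsg.Agent.Lib.Helper1.SUT

open Module Cfsg.Agent.Lib.Helper2 Cfsg.Agent.Lib.Helper2.IsomDecomp Cfsg.Agent.Lib.Helper2.UT
  Cfsg.Agent.Lib.Helper5.PSLCoset Cfsg.Agent.Lib.Helper1.SUR


section assembly
variable {F : Type*} [Field F] {q : ℕ}

theorem isCox_cox {σ : F ≃+* F} {V : Type*} [AddCommGroup V] [Module F V] {H : V → V → F}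
    (h : IsHerm σ H) {m : ℕ} {e f : ℕ → V} (hp : HPairs H m e f) (hm : 2 ≤ m) {μ : F}
    (hμ : σ μ = -μ) (hμ0 : μ ≠ 0) :
    IsCox H m e f (cox h hp μ) ((-1) ^ m * μ⁻¹) ((-1) ^ (m - 1) * μ) where
  isom := cox_mem_isom h hp hμ
  ha := mul_ne_zero (pow_ne_zero _ (neg_ne_zero.mpr one_ne_zero)) (inv_ne_zero hμ0)
  hb := mul_ne_zero (pow_ne_zero _ (neg_ne_zero.mpr one_ne_zero)) hμ0
  e_succ := cox_e_succ h hp (by omega) μ
  f_succ := cox_f_succ h hp (by omega) μ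
  e_zero := cox_e_zero h hp (by omega) hμ0
  f_zero := cox_f_zero h hp (by omega) hμ0

theorem isTor_tor {σ : F ≃+* F} {V : Type*} [AddCommGroup V] [Module F V] {H : V → V → F}
    (hσ2 : ∀ a : F, σ (σ a) = a)
    (h : IsHerm σ H) {m : ℕ} {e f : ℕ → V} (hp : HPairs H m e f) (hm : 2 ≤ m) {θ : F}
    (hθ0 : θ ≠ 0) : IsTor σ H e f (tor h hp (σ θ)) θ := by
  have hσθ0 : σ θ ≠ 0 := fun h0 => hθ0 ((map_eq_zero σ).mp h0)
  refine ⟨tor_mem_isom h hp _, ?_, ?_, tor_f_zero h hp hm hσθ0, tor_f_one h hp hm hσθ0,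
    tor_fix h hp _⟩
  · rw [tor_e_zero h hp hm hσθ0, hσ2]
  · rw [tor_e_one h hp hm hσθ0, hσ2]

variable [Fintype F]

theorem psu_odd_two_gen (hF : Fintype.card F = q ^ 2) (m : ℕ) (hm : 2 ≤ m) :
    ∃ a b : Cfsg.PSU (2 * m + 1) F q,
      Subgroup.closure ({a, b} : Set (Cfsg.PSU (2 * m + 1) F q)) = ⊤ := by
  obtain ⟨σ, hσ, hσq⟩ := HermDecomp.exists_sigma hF
  have hσ2 := WittHerm.sigma_sigma hσ
  have h := GUIsom.isHerm_hermForm (2 * m + 1) q σ hσ2 hσq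
  have hq2 : 2 ≤ q := Cfsg.Agent.Lib.Helper1.HermCount.two_le_q hF
  have hnd : ∀ v : Fin (2 * m + 1) → F,
      (∀ w, Cfsg.hermForm (2 * m + 1) F q v w = 0) → v = 0 :=
    fun v hv => GUIsom.hermForm_nondeg (2 * m + 1) q (by omega) v hv
  obtain ⟨e, f, d, fr⟩ := exists_frame hF m
  have hp := hPairs_of_frame fr
  obtain ⟨θ, hθ0, hθ, -⟩ := exists_gen hσ
  obtain ⟨μ, hμ0, hμ⟩ := UT.exists_skew hσ
  obtain ⟨c0, hc0⟩ := exists_trace_eq hσ (-1 : F) (by rw [map_neg, map_one])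
  have hc0' : c0 + σ c0 + 1 = 0 := by rw [hc0]; ring
  have hw := isCox_cox h hp hm hμ hμ0
  have ht := isTor_tor hσ2 h hp hm hθ0
  have wd : cox h hp μ d = d := cox_fix h hp μ d (fun i hi => fr.de i hi) (fun i hi => fr.df i hi)
  have hcore := core_odd hσ h fr hm hw ht wd hnd hθ hc0'
  have he0 : Cfsg.hermForm (2 * m + 1) F q (e 0) (e 0) = 0 := fr.ee 0 0 (by omega) (by omega)
  have hd0 : Cfsg.hermForm (2 * m + 1) F q d (e 0) = 0 := fr.de 0 (by omega)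
  refine wrap2 hF (2 * m + 1) (by omega) hσq h ⟨tor h hp (σ θ), eich h (e 0) d c0 he0 hd0 * cox h hp μ,
    ⟨ht.isom, (isom _).mul_mem (eich_mem_isom h (e 0) d c0 he0 hd0 (by rw [fr.dd]; exact hc0'))
      hw.isom⟩, ⟨det_tor h hp _, by rw [map_mul, det_eich, det_cox, one_mul]⟩, hcore⟩

theorem psu_even_two_gen (hF : Fintype.card F = q ^ 2) (m : ℕ) (hm : 2 ≤ m) :
    ∃ a b : Cfsg.PSU (2 * m) F q,
      Subgroup.closure ({a, b} : Set (Cfsg.PSU (2 * m) F q)) = ⊤ := by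
  obtain ⟨σ, hσ, hσq⟩ := HermDecomp.exists_sigma hF
  have hσ2 := WittHerm.sigma_sigma hσ
  have h := GUIsom.isHerm_hermForm (2 * m) q σ hσ2 hσq
  have hq2 : 2 ≤ q := Cfsg.Agent.Lib.Helper1.HermCount.two_le_q hF
  have hnd : ∀ v : Fin (2 * m) → F,
      (∀ w, Cfsg.hermForm (2 * m) F q v w = 0) → v = 0 :=
    fun v hv => GUIsom.hermForm_nondeg (2 * m) q (by omega) v hv
  obtain ⟨e, f, fr⟩ := exists_frame0 hF m
  have hp := fr.hPairs
  obtain ⟨θ, hθ0, hθ, -⟩ := exists_gen hσ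
  obtain ⟨μ, hμ0, hμ⟩ := UT.exists_skew hσ
  have hw := isCox_cox h hp hm hμ hμ0
  have ht := isTor_tor hσ2 h hp hm hθ0
  have hgen : ∀ Γ : AddSubgroup F, ∀ γ₀ ∈ Γ, γ₀ ≠ 0 → (∀ γ ∈ Γ, (σ θ) ^ 2 * γ ∈ Γ) → Γ = ⊤ := by
    intro Γ γ₀ hγ₀ hγ₀0 hmul
    exact addSubgroup_eq_top_of_order hF Γ ((σ θ) ^ 2) γ₀
      (le_orderOf_gen_sq hF (gen_sigma hσ2 hθ)) hγ₀ hγ₀0 hmul
  have hcore := core_even hσ h fr hm hw ht hnd hθ hθ0 hgen
  have he0 : Cfsg.hermForm (2 * m) F q (e 0) (e 0) = 0 := fr.ee 0 0 (by omega) (by omega)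
  have hf10 : Cfsg.hermForm (2 * m) F q (f 1) (e 0) = 0 := by
    rw [fr.fe 1 0 (by omega) (by omega), if_neg (by omega)]
  refine wrap2 hF (2 * m) (by omega) hσq h ⟨tor h hp (σ θ), eich h (e 0) (f 1) 0 he0 hf10 * cox h hp μ,
    ⟨ht.isom, (isom _).mul_mem (eich_mem_isom h (e 0) (f 1) 0 he0 hf10
      (by rw [fr.ff 1 1 (by omega) (by omega)]; simp)) hw.isom⟩,
    ⟨det_tor h hp _, by rw [map_mul, det_eich, det_cox, one_mul]⟩, hcore⟩

/-- `PSU_n(q)`, `n ≥ 3`, `(n,q) ≠ (3,2)`, is generated by two elements -/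
theorem psu_two_gen (hq : IsPrimePow q) (hF : Fintype.card F = q ^ 2) (n : ℕ) (hn : 3 ≤ n)
    (h32 : n = 3 → q ≠ 2) :
    ∃ a b : Cfsg.PSU n F q, Subgroup.closure ({a, b} : Set (Cfsg.PSU n F q)) = ⊤ := by
  have hq2 : 2 ≤ q := hq.two_le
  rcases Nat.lt_or_ge n 4 with h4 | h4
  · obtain rfl : n = 3 := by omega
    have := h32 rfl
    exact psu_three_two_gen (by omega) hF
  · obtain ⟨m, rfl | rfl⟩ := Nat.even_or_odd' n
    · exact psu_even_two_gen hF m (by omega)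
    · exact psu_odd_two_gen hF m (by omega)

end assembly

end Cfsg.Agent.Lib.Helper1.SUT
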